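import Cfsg.Agent.Lib.Mathieu.PcGroup

/-!
# Sylow 2-subgroups of the Mathieu groups

`gp syl24`, `gp syl23` (also for `M22`), `gp syl12`, `gp syl11`; all elements are listed by `pcL`.
-/

set_option autoImplicit false

namespace CfsgLib.Mathieu

open Cfsg CfsgLib.Golay
open scoped Pointwise

def syl24 : List ℕ := [112498419363478465068426720085990401, 984612649355406094121217942427387040, 610957654620063647451999179135534243, 984724508489452699215480746259449888, 984721978136738731986858641841030208, 29429271468893102754624345968411735, 979121071158219704299181131031480352, 976448692869377735270425038196672544, 965128854020860192151391391390468128, 961365507626256404119956257276790816]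
def sylSlp24 : List (ℕ × List ℕ) := [(963721886883755259286232606933354528, [8, 9]), (968708902336673183175954409307867168, [7, 8, 9, 10])]
def sylChain24 : List (ℕ × List ℕ) := [(4, [965128854020860192151391391390468128, 963721886883755259286232606933354528, 979121071158219704299181131031480352, 968708902336673183175954409307867168, 984724508489452699215480746259449888, 984721978136738731986858641841030208, 984612649355406094121217942427387040, 112498419363478465068426720085990401]), (0, [984724508489452699215480746259449888, 984721978136738731986858641841030208, 984612649355406094121217942427387040, 112498419363478465068426720085990401]), (8, [984724508489452699215480746259449888, 984721978136738731986858641841030208, 984612649355406094121217942427387040])]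
def sylProg24 : List (List ℕ) := [[5, 0, 8, 8536111, 8536111, 1], [1, 0, 1], [4, 1, 4, 131110, 8405001, 2], [1, 1, 3], [4, 3, 2, 6, 131104, 4], [1, 3, 5], [4, 5, 1, 2, 4, 8], [1, 5, 7], [4, 6, 1, 32, 131072, 8], [1, 6, 9], [4, 4, 2, 16392, 8388609, 4], [1, 4, 11], [4, 11, 1, 8, 16384, 8], [1, 11, 13], [4, 12, 1, 1, 8388608, 8], [1, 12, 15]]
def sylOct24 : ℕ := 8536111
def sylZ24 : ℕ := 961365507626256404119956257276790816
def sylScl24 : List (ℕ × List ℕ × List ℕ) := [(352432738059374773734263935948140755, [0], [0, 3, 5, 9]), (196509383843985096347513704443230725, [1], [3, 5]), (941195998920574623743073627469713933, [1], [3, 7]), (49506433637446389855167706946645376, [1], [0, 3, 9]), (106101613057198544231694086544104133, [0, 1, 3], [2, 5, 8, 9]), (91013524095956695812202181589884357, [3], [2, 4]), (766813759773479408116984487252907636, [3], [1, 5, 8]), (667232632667299065127798443281453672, [0, 3, 0], [6, 8, 9]), (984818244535754528103549039458486304, [6, 7, 8], [0]), (984818244535754528103549039458486304, [0, 2, 0, 4, 9], [1]), (984818244535754528103549039458486304,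 [0, 1, 0, 1], [2]), (984818244535754528103549039458486304, [0, 9, 0], [3]), (984818244535754528103549039458486304, [1, 6], [4]), (984818244535754528103549039458486304, [1, 11], [5]), (984818244535754528103549039458486304, [4, 6, 4], [6]), (984818244535754528103549039458486304, [3, 12], [7]), (984818244535754528103549039458486304, [1, 8, 16], [8]), (984818244535754528103549039458486304, [17], [9])]
def syl23 : List ℕ := [983549310955746530506231437997410400, 979283409119483249701587601985157152, 970500119315863743489150393640323232, 965128854020860192151391391390468128, 963721886883755259286232606933354528, 970499966350631336865513127433832480, 981818691054096003685363657089320992]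
def sylSlp23 : List (ℕ × List ℕ) := [(979121071158219704299181131031480352, [4, 6]), (968708902336673183175954409307867168, [4, 6])]
def sylChain23 : List (ℕ × List ℕ) := [(4, [965128854020860192151391391390468128, 963721886883755259286232606933354528, 979121071158219704299181131031480352, 968708902336673183175954409307867168, 979283409119483249701587601985157152, 983549310955746530506231437997410400]), (6, [979283409119483249701587601985157152, 983549310955746530506231437997410400])]
def sylProg23 : List (List ℕ) := [[1, 0, 1], [5, 2, 8, 628112, 7612992, 2], [1, 2, 3], [4, 3, 4, 66944, 561168, 4], [1, 3, 5], [4, 5, 2, 384, 66560, 8], [1, 5, 7], [4, 7, 1, 128, 256, 16], [1, 7, 9], [4, 8, 1, 1024, 65536, 16], [1, 8, 11], [4, 6, 2, 32784, 528384, 8], [1, 6, 13], [4, 13, 1, 16, 32768, 16], [1, 13, 15], [4, 14, 1, 4096, 524288, 16], [1, 14, 17]]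
def sylOct23 : ℕ := 628112
def sylZ23 : ℕ := 981818691054096003685363657089320992
def sylScl23 : List (ℕ × List ℕ × List ℕ) := [(966429548939506998266992702532976686, [0], [5, 6]), (963807758432513994887838957614481420, [1], [1, 6]), (972665787937451298398068486112413223, [0], [1, 2, 6]), (961410398384167812674488024801916113, [0], [3, 4]), (965209896338339397893915288884282478, [1], [0, 2, 6]), (984818244535754528103549039458486304, [0, 2, 3, 5], [0]), (984818244535754528103549039458486304, [4, 6], [1]), (984818244535754528103549039458486304, [4, 5], [2]), (984818244535754528103549039458486304, [1, 4, 6], [3]), (984818244535754528103549039458486304, [0, 5], [4]), (984818244535754528103549039458486304, [9, 10], [5]), (984818244535754528103549039458486304, [11], [6])]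
def sylScl22 : List (ℕ × List ℕ × List ℕ) := [(972649791236180255333300868896490624, [0], [1]), (984123044520064660554312790977317024, [1], [3, 5, 6]), (969070085684871755503016106293572032, [1, 0, 1], [2]), (966177359202791956900375471387122112, [0, 1, 0, 1], [0, 6]), (984818244535754528103549039458486304, [0, 4], [0]), (984818244535754528103549039458486304, [4], [1]), (984818244535754528103549039458486304, [3], [2]), (984818244535754528103549039458486304, [0, 5, 0], [3]), (984818244535754528103549039458486304, [2, 6, 2, 6], [4]), (984818244535754528103549039458486304, [1, 7, 9], [5]), (984818244535754528103549039458486304, [10], [6])]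
def syl12 : List ℕ := [735548533734033527546468929854573569, 233233386906768391987032901617288256, 222848521963869917746636076779308099, 719923664328491199848526586197411872, 227578386318009578406903204956702752, 970499966350631336865513127433832480]
def sylSlp12 : List (ℕ × List ℕ) := [(608405391266436187982588441666881568, [3, 4, 5])]
def sylChain12 : List (ℕ × List ℕ) := [(4, [719923664328491199848526586197411872, 608405391266436187982588441666881568, 233233386906768391987032901617288256, 735548533734033527546468929854573569]), (0, [233233386906768391987032901617288256, 735548533734033527546468929854573569]), (1, [233233386906768391987032901617288256])]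
def sylProg12 : List (List ℕ) := [[1, 0, 1], [4, 1, 2, 6, 9, 2], [1, 1, 3], [4, 3, 1, 2, 4, 4], [1, 3, 5], [4, 4, 1, 1, 8, 4], [1, 4, 7], [4, 8, 1, 8, 8, 4], [1, 8, 9], [4, 10, 4, 66368, 274448, 2], [1, 10, 11], [4, 11, 2, 576, 65792, 4], [1, 11, 13], [4, 13, 1, 64, 512, 8], [1, 13, 15], [4, 14, 1, 256, 65536, 8], [1, 14, 17], [4, 12, 2, 4112, 270336, 4], [1, 12, 19], [4, 19, 1, 16, 4096, 8], [1, 19, 21], [4, 20, 1, 8192, 262144, 8], [1, 20, 23], [4, 2, 2, 147456, 8388640, 2], [1, 2, 25], [4, 25, 1, 16384, 131072, 4], [1, 25, 27]]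
def sylOct12 : ℕ := 421910
def sylZ12 : ℕ := 970499966350631336865513127433832480
def sylScl12 : List (ℕ × List ℕ × List ℕ) := [(434434755470840267427184313474909762, [0], [1, 2, 5]), (433867809581360327751379196609409440, [0, 1], [2]), (816798201354629837405138487379797062, [2], [1, 2, 4, 5]), (840733964998185771122574815977937484, [2, 3], [0, 2, 5]), (980661675154193021963504095709037986, [0, 1, 3], [2, 3, 4]), (984818244535754528103549039458486304, [1, 3, 5], [0]), (984818244535754528103549039458486304, [0, 2, 5], [1]), (984818244535754528103549039458486304, [5], [2]), (984818244535754528103549039458486304, [3, 5, 1], [3]), (984818244535754528103549039458486304, [8, 6], [4]), (984818244535754528103549039458486304, [10], [5])]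
def syl11 : List ℕ := [984355386066803413838770983050249280, 719360590536681843314903822610073632, 796134455581813252778404696041064480, 486349973926430203268823274221996064]
def sylSlp11 : List (ℕ × List ℕ) := [(858934107515357207598970770041374752, [1, 2, 3])]
def sylChain11 : List (ℕ × List ℕ) := [(3, [719360590536681843314903822610073632, 858934107515357207598970770041374752, 984355386066803413838770983050249280]), (1, [984355386066803413838770983050249280])]
def sylProg11 : List (List ℕ) := [[1, 0, 1], [1, 1, 2], [4, 4, 1, 256, 256, 1], [1, 4, 5], [4, 6, 1, 2, 4, 2], [1, 6, 7], [4, 8, 1, 4, 4, 2], [1, 8, 9], [4, 10, 4, 8784, 331784, 2], [1, 10, 11], [4, 11, 2, 80, 8704, 4], [1, 11, 13], [4, 13, 1, 16, 64, 8], [1, 13, 15], [4, 14, 1, 512, 8192, 8], [1, 14, 17], [4, 12, 2, 65544, 266240, 4], [1, 12, 19], [4, 19, 1, 8, 65536, 8], [1, 19, 21], [4, 20, 1, 4096, 262144, 8], [1, 20, 23], [4, 3, 2, 2098176, 4194336, 2], [1, 3, 25], [4, 25, 1, 1024, 2097152, 4], [1, 25, 27]]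
def sylOct11 : ℕ := 2430217
def sylZ11 : ℕ := 486349973926430203268823274221996064
def sylScl11 : List (ℕ × List ℕ × List ℕ) := [(477177202577309976553434372155679104, [0], [0, 3]), (716035195308362729530582278567310624, [0, 1], [0, 2, 3]), (319761830278056061202934910400169216, [0, 1], [1, 2]), (984818244535754528103549039458486304, [2, 3], [0]), (984818244535754528103549039458486304, [0, 1, 0], [1]), (984818244535754528103549039458486304, [2, 0], [2]), (984818244535754528103549039458486304, [6], [3])]

theorem has_syl24 : ∀ a ∈ syl24, Has M24 a := fun a ha =>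
  has_M24 ((allL_iff _ _).1 (by decide +kernel : allL syl24 inM24 = true) a ha)

theorem has_top_syl24 : ∀ a ∈ syl24, Has ⊤ a := fun a ha => (has_syl24 a ha).mono le_top

theorem pcOK24 : pcOK syl24 = true := by decide +kernel

theorem card_syl24 : Nat.card (gp syl24) = 2 ^ 10 :=
  card_gp has_top_syl24 pcOK24 sylSlp24 sylChain24 (by decide +kernel) (by decide +kernel)
    (by decide +kernel)

theorem cenOK24 : cenOK syl24 sylZ24 = true := by decide +kernel

theorem has_syl23 : ∀ a ∈ syl23, Has Spor.M22 a := fun a ha =>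
  has_M22 ((allL_iff _ _).1 (by decide +kernel : allL syl23 (inStab [] [23, 0]) = true) a ha)

theorem has_top_syl23 : ∀ a ∈ syl23, Has ⊤ a := fun a ha => (has_syl23 a ha).mono le_top

theorem pcOK23 : pcOK syl23 = true := by decide +kernel

theorem card_syl23 : Nat.card (gp syl23) = 2 ^ 7 :=
  card_gp has_top_syl23 pcOK23 sylSlp23 sylChain23 (by decide +kernel) (by decide +kernel)
    (by decide +kernel)

theorem cenOK23 : cenOK syl23 sylZ23 = true := by decide +kernel

theorem has_syl12 : ∀ a ∈ syl12, Has Spor.M12 a := fun a ha =>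
  has_M12 ((allL_iff _ _).1 (by decide +kernel : allL syl12 (inStab [dod0] []) = true) a ha)

theorem has_top_syl12 : ∀ a ∈ syl12, Has ⊤ a := fun a ha => (has_syl12 a ha).mono le_top

theorem pcOK12 : pcOK syl12 = true := by decide +kernel

theorem card_syl12 : Nat.card (gp syl12) = 2 ^ 6 :=
  card_gp has_top_syl12 pcOK12 sylSlp12 sylChain12 (by decide +kernel) (by decide +kernel)
    (by decide +kernel)

theorem cenOK12 : cenOK syl12 sylZ12 = true := by decide +kernel

theorem has_syl11 : ∀ a ∈ syl11, Has Spor.M11 a := fun a ha =>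
  has_M11 ((allL_iff _ _).1 (by decide +kernel : allL syl11 (inStab [dod0] [0]) = true) a ha)

theorem has_top_syl11 : ∀ a ∈ syl11, Has ⊤ a := fun a ha => (has_syl11 a ha).mono le_top

theorem pcOK11 : pcOK syl11 = true := by decide +kernel

theorem card_syl11 : Nat.card (gp syl11) = 2 ^ 4 :=
  card_gp has_top_syl11 pcOK11 sylSlp11 sylChain11 (by decide +kernel) (by decide +kernel)
    (by decide +kernel)

theorem cenOK11 : cenOK syl11 sylZ11 = true := by decide +kernel

theorem syl24_le : gp syl24 ≤ M24 := gp_le has_syl24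
theorem syl23_le_M22 : gp syl23 ≤ Spor.M22 := gp_le has_syl23
theorem syl23_le : gp syl23 ≤ Spor.M23 := syl23_le_M22.trans inf_le_left
theorem syl12_le : gp syl12 ≤ Spor.M12 := gp_le has_syl12
theorem syl11_le : gp syl11 ≤ Spor.M11 := gp_le has_syl11

theorem factorization_two_pow_mul {k m : ℕ} (hm : ¬ 2 ∣ m) : (2 ^ k * m).factorization 2 = k := by
  have h0 : m ≠ 0 := by rintro rfl; simp at hm
  rw [Nat.factorization_mul (by positivity) h0, Finsupp.add_apply, Nat.factorization_eq_zero_of_not_dvd hm,
    Nat.Prime.factorization_pow Nat.prime_two, Finsupp.single_eq_same, add_zero]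

theorem card_syl24' : Nat.card (gp syl24) = 2 ^ (Nat.card M24).factorization 2 := by
  rw [card_syl24, card_M24, show 244823040 = 2 ^ 10 * 239085 by norm_num,
    factorization_two_pow_mul (by norm_num)]
theorem card_syl23' : Nat.card (gp syl23) = 2 ^ (Nat.card Spor.M23).factorization 2 := by
  rw [card_syl23, card_M23, show 10200960 = 2 ^ 7 * 79695 by norm_num,
    factorization_two_pow_mul (by norm_num)]
theorem card_syl22' : Nat.card (gp syl23) = 2 ^ (Nat.card Spor.M22).factorization 2 := by
  rw [card_syl23, card_M22, show 443520 = 2 ^ 7 * 3465 by norm_num,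
    factorization_two_pow_mul (by norm_num)]
theorem card_syl12' : Nat.card (gp syl12) = 2 ^ (Nat.card Spor.M12).factorization 2 := by
  rw [card_syl12, card_M12, show 95040 = 2 ^ 6 * 1485 by norm_num,
    factorization_two_pow_mul (by norm_num)]
theorem card_syl11' : Nat.card (gp syl11) = 2 ^ (Nat.card Spor.M11).factorization 2 := by
  rw [card_syl11, card_M11, show 7920 = 2 ^ 4 * 495 by norm_num,
    factorization_two_pow_mul (by norm_num)]

theorem norm_odd24 : ∀ g ∈ M24, (∀ x ∈ gp syl24, g * x * g⁻¹ ∈ gp syl24) → Odd (orderOf g) → g = 1 :=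
  fun _ hg hn ho => eq_one_of_nRun has_top_syl24 hg hn ho sylProg24
    (init_inv (sets := []) (pts := []) (by simp) (by simp)) sylOct24 (by decide +kernel)

theorem norm_odd23 :
    ∀ g ∈ Spor.M23, (∀ x ∈ gp syl23, g * x * g⁻¹ ∈ gp syl23) → Odd (orderOf g) → g = 1 :=
  fun _ hg hn ho => eq_one_of_nRun has_top_syl23 hg.1 hn ho sylProg23
    (init_inv (sets := []) (pts := [23]) (by simp) (by simpa using (mem_M23.1 hg).2)) sylOct23
    (by decide +kernel)

theorem norm_odd22 :
    ∀ g ∈ Spor.M22, (∀ x ∈ gp syl23, g * x * g⁻¹ ∈ gp syl23) → Odd (orderOf g) → g = 1 :=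
  fun g hg => norm_odd23 g hg.1

theorem norm_odd12 :
    ∀ g ∈ Spor.M12, (∀ x ∈ gp syl12, g * x * g⁻¹ ∈ gp syl12) → Odd (orderOf g) → g = 1 :=
  fun _ hg hn ho => eq_one_of_nRun has_top_syl12 hg.1 hn ho sylProg12
    (init_inv (sets := [dod0]) (pts := []) (by simpa using M12_smul hg) (by simp)) sylOct12
    (by decide +kernel)

theorem norm_odd11 :
    ∀ g ∈ Spor.M11, (∀ x ∈ gp syl11, g * x * g⁻¹ ∈ gp syl11) → Odd (orderOf g) → g = 1 :=
  fun _ hg hn ho => eq_one_of_nRun has_top_syl11 hg.1.1 hn ho sylProg11
    (init_inv (sets := [dod0]) (pts := [0]) (by simpa using M12_smul hg.1)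
      (by simpa using (mem_M11.1 hg).2.2)) sylOct11 (by decide +kernel)

theorem scl_of {K : Subgroup P24} {inK : ℕ → Bool} (hK : ∀ a, inK a = true → Has K a) {gens : List ℕ}
    (hgens : ∀ a ∈ gens, Has ⊤ a) (hpc : pcOK gens = true) {z : ℕ} (hz : cenOK gens z = true)
    (prog : List (ℕ × List ℕ × List ℕ)) (h : sclOK inK gens prog [z] = true) (T : Subgroup P24)
    (hT : T ≤ gp gens) (h1 : ∃ y ∈ T, y ≠ 1 ∧ ∀ t ∈ gp gens, t * y = y * t)
    (h2 : ∀ x ∈ T, ∀ g ∈ K, g * x * g⁻¹ ∈ gp gens → g * x * g⁻¹ ∈ T) : gp gens ≤ T := by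
  obtain ⟨y, hy, hy1, hyc⟩ := h1
  refine le_of_sclOK hK hgens h2 prog (fun a ha => ?_) h
  rw [List.mem_singleton.1 ha]
  exact ⟨y, hy, code_eq_of_cenOK hgens hpc hz (hT hy) hy1 hyc⟩

theorem scl24 (T : Subgroup P24) (hT : T ≤ gp syl24)
    (h1 : ∃ y ∈ T, y ≠ 1 ∧ ∀ t ∈ gp syl24, t * y = y * t)
    (h2 : ∀ x ∈ T, ∀ g ∈ M24, g * x * g⁻¹ ∈ gp syl24 → g * x * g⁻¹ ∈ T) : gp syl24 ≤ T :=
  scl_of (inK := inM24) (fun _ => has_M24) has_top_syl24 pcOK24 cenOK24 sylScl24 (by decide +kernel) T hT h1 h2

theorem scl23 (T : Subgroup P24) (hT : T ≤ gp syl23)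
    (h1 : ∃ y ∈ T, y ≠ 1 ∧ ∀ t ∈ gp syl23, t * y = y * t)
    (h2 : ∀ x ∈ T, ∀ g ∈ Spor.M23, g * x * g⁻¹ ∈ gp syl23 → g * x * g⁻¹ ∈ T) : gp syl23 ≤ T :=
  scl_of (inK := (inStab [] [23])) (fun _ => has_M23) has_top_syl23 pcOK23 cenOK23 sylScl23 (by decide +kernel) T hT h1 h2

theorem scl22 (T : Subgroup P24) (hT : T ≤ gp syl23)
    (h1 : ∃ y ∈ T, y ≠ 1 ∧ ∀ t ∈ gp syl23, t * y = y * t)
    (h2 : ∀ x ∈ T, ∀ g ∈ Spor.M22, g * x * g⁻¹ ∈ gp syl23 → g * x * g⁻¹ ∈ T) : gp syl23 ≤ T :=
  scl_of (inK := (inStab [] [23, 0])) (fun _ => has_M22) has_top_syl23 pcOK23 cenOK23 sylScl22 (by decide +kernel) T hT h1 h2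

theorem scl12 (T : Subgroup P24) (hT : T ≤ gp syl12)
    (h1 : ∃ y ∈ T, y ≠ 1 ∧ ∀ t ∈ gp syl12, t * y = y * t)
    (h2 : ∀ x ∈ T, ∀ g ∈ Spor.M12, g * x * g⁻¹ ∈ gp syl12 → g * x * g⁻¹ ∈ T) : gp syl12 ≤ T :=
  scl_of (inK := (inStab [dod0] [])) (fun _ => has_M12) has_top_syl12 pcOK12 cenOK12 sylScl12 (by decide +kernel) T hT h1 h2

theorem scl11 (T : Subgroup P24) (hT : T ≤ gp syl11)
    (h1 : ∃ y ∈ T, y ≠ 1 ∧ ∀ t ∈ gp syl11, t * y = y * t)
    (h2 : ∀ x ∈ T, ∀ g ∈ Spor.M11, g * x * g⁻¹ ∈ gp syl11 → g * x * g⁻¹ ∈ T) : gp syl11 ≤ T :=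
  scl_of (inK := (inStab [dod0] [0])) (fun _ => has_M11) has_top_syl11 pcOK11 cenOK11 sylScl11 (by decide +kernel) T hT h1 h2

end CfsgLib.Mathieu
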